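import Mathlib
import Groth.Agent.Lib.Helper9.FF.Apps
import Groth.Agent.Lib.Helper9.FF.FGSub
import Groth.Agent.Lib.Helper9.CocommDiag.Semisimple
import Groth.Agent.Lib.Helper9.CotGr.Cartier

/-!
# Extending rational points along sub-Hopf-algebras (helper9)

Over an algebraically closed field `k`, every `k`-point of a sub-Hopf-algebra `A₀` of a commutative
Hopf algebra `A` (no finiteness assumed) extends to a `k`-point of `A`.  In geometric terms:
`G(k) → H(k)` is surjective for a faithfully flat quotient `G → H` of affine group schemes.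
-/

set_option autoImplicit false
set_option linter.style.haveILetI false

namespace Groth.Agent.H9.Points

open TensorProduct Groth.Agent.H9.FF

universe u v

section Step

variable {k : Type u} [Field k] [IsAlgClosed k] {B : Type v} {B' : Type v} {A : Type v}
  [CommRing B] [CommRing B'] [CommRing A] [Algebra k B] [Algebra k B'] [Algebra k A]

/-- extension step: `A` faithfully flat over `B`, `B'` between them and finitely generated over `B` -/
theorem exists_extend_step [Algebra B A] [Module.FaithfullyFlat B A] (inc : B →ₐ[k] B')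
    (j : B' →ₐ[k] A) (hcomp : ∀ b, j (inc b) = algebraMap B A b)
    (F : Finset B') (hgen : Algebra.adjoin k (Set.range inc ∪ (F : Set B')) = ⊤)
    (h : B →ₐ[k] k) : ∃ h' : B' →ₐ[k] k, h'.comp inc = h := by
  classical
  let m : Ideal B := RingHom.ker (h : B →+* k)
  let I' : Ideal B' := m.map (inc : B →+* B')
  have hm : m ≠ ⊤ := by
    intro htop
    have h1 : (1 : B) ∈ m := by rw [htop]; exact Submodule.mem_top
    have h2 : h 1 = 0 := h1
    rw [map_one] at h2
    exact one_ne_zero h2
  have hI' : I' ≠ ⊤ := by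
    intro htop
    have h1 : m.map (algebraMap B A) = ⊤ := by
      have h2 : (algebraMap B A) = (j : B' →+* A).comp (inc : B →+* B') := by
        ext b
        exact (hcomp b).symm
      rw [h2, ← Ideal.map_map]
      show I'.map _ = ⊤
      rw [htop, Ideal.map_top]
    have h3 := Ideal.comap_map_eq_self_of_faithfullyFlat (B := A) m
    rw [h1, Ideal.comap_top] at h3
    exact hm h3.symm
  haveI : Nontrivial (B' ⧸ I') := Ideal.Quotient.nontrivial_iff.mpr hI'
  have hb : ∀ b : B, Ideal.Quotient.mk I' (inc b) = algebraMap k (B' ⧸ I') (h b) := by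
    intro b
    have h1 : b - algebraMap k B (h b) ∈ m := by
      show h (b - algebraMap k B (h b)) = 0
      rw [map_sub, AlgHom.commutes]
      exact sub_self _
    have h2 : inc (b - algebraMap k B (h b)) ∈ I' := Ideal.mem_map_of_mem _ h1
    rw [map_sub, AlgHom.commutes] at h2
    have h3 := (Ideal.Quotient.mk_eq_mk_iff_sub_mem _ _).mpr h2
    rw [h3]
    rfl
  haveI : Algebra.FiniteType k (B' ⧸ I') := by
    refine ⟨⟨F.image (Ideal.Quotient.mk I'), ?_⟩⟩
    set R : Subalgebra k (B' ⧸ I') :=
      Algebra.adjoin k ((F.image (Ideal.Quotient.mk I') : Finset (B' ⧸ I')) : Set (B' ⧸ I')) with hR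
    have hle : (⊤ : Subalgebra k B') ≤ R.comap (Ideal.Quotient.mkₐ k I') := by
      rw [← hgen]
      apply Algebra.adjoin_le
      rintro x (⟨b, rfl⟩ | hx)
      · rw [SetLike.mem_coe, Subalgebra.mem_comap]
        show Ideal.Quotient.mk I' (inc b) ∈ R
        rw [hb]
        exact Subalgebra.algebraMap_mem _ _
      · rw [SetLike.mem_coe, Subalgebra.mem_comap]
        apply Algebra.subset_adjoin
        rw [Finset.coe_image]
        exact ⟨x, hx, rfl⟩
    rw [eq_top_iff]
    intro q _
    obtain ⟨y, rfl⟩ := Ideal.Quotient.mk_surjective q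
    exact hle (Algebra.mem_top (x := y))
  obtain ⟨M, hM⟩ := Ideal.exists_maximal (B' ⧸ I')
  obtain ⟨χ, -⟩ := Groth.Agent.H9.CocommDiag.exists_point_of_maximal (k := k) M
  refine ⟨χ.comp (Ideal.Quotient.mkₐ k I'), ?_⟩
  ext b
  show χ (Ideal.Quotient.mk I' (inc b)) = h b
  rw [hb, AlgHom.commutes]
  rfl

end Step

section Zorn

variable {k : Type u} [Field k] {A : Type v} [CommRing A] [HopfAlgebra k A]

/-- a directed union of sub-Hopf-algebras is a sub-Hopf-algebra -/
theorem isHopfSub_iSup {ι : Type*} [Nonempty ι] (K : ι → Subalgebra k A)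
    (dir : Directed (· ≤ ·) K) (hK : ∀ i, IsHopfSub k A (K i)) : IsHopfSub k A (iSup K) := by
  constructor
  · intro b hb
    have hb' : b ∈ ((iSup K : Subalgebra k A) : Set A) := hb
    rw [Subalgebra.coe_iSup_of_directed dir, Set.mem_iUnion] at hb'
    obtain ⟨i, hi⟩ := hb'
    have h1 := (hK i).comul_mem b hi
    have hle : Subalgebra.toSubmodule (K i) ≤ Subalgebra.toSubmodule (iSup K) :=
      Subalgebra.toSubmodule.monotone (le_iSup K i)
    exact range_map_le (D := Subalgebra.toSubmodule (K i)) hle h1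
  · intro b hb
    have hb' : b ∈ ((iSup K : Subalgebra k A) : Set A) := hb
    rw [Subalgebra.coe_iSup_of_directed dir, Set.mem_iUnion] at hb'
    obtain ⟨i, hi⟩ := hb'
    exact le_iSup K i ((hK i).antipode_mem b hi)

/-- the join of two sub-Hopf-algebras is a sub-Hopf-algebra -/
theorem isHopfSub_sup {B C : Subalgebra k A} (hB : IsHopfSub k A B) (hC : IsHopfSub k A C) :
    IsHopfSub k A (B ⊔ C) := by
  constructor
  · let Rng : Subalgebra k (A ⊗[k] A) := (Algebra.TensorProduct.map (B ⊔ C).val (B ⊔ C).val).range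
    have hRng : ∀ z, z ∈ Rng ↔
        z ∈ LinearMap.range (TensorProduct.map (B ⊔ C).val.toLinearMap (B ⊔ C).val.toLinearMap) :=
      fun z => Iff.rfl
    have hle : B ⊔ C ≤ Rng.comap (Bialgebra.comulAlgHom k A) := by
      apply sup_le
      · intro b hb
        rw [Subalgebra.mem_comap, hRng]
        exact range_map_le (D := Subalgebra.toSubmodule B)
          (Subalgebra.toSubmodule.monotone le_sup_left) (hB.comul_mem b hb)
      · intro b hb
        rw [Subalgebra.mem_comap, hRng]
        exact range_map_le (D := Subalgebra.toSubmodule C)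
          (Subalgebra.toSubmodule.monotone le_sup_right) (hC.comul_mem b hb)
    intro b hb
    exact (hRng _).mp (hle hb)
  · have hle : B ⊔ C ≤ (B ⊔ C).comap (HopfAlgebra.antipodeAlgHom k A) := by
      apply sup_le
      · intro b hb
        rw [Subalgebra.mem_comap]
        exact (le_sup_left : B ≤ B ⊔ C) (hB.antipode_mem b hb)
      · intro b hb
        rw [Subalgebra.mem_comap]
        exact (le_sup_right : C ≤ B ⊔ C) (hC.antipode_mem b hb)
    intro b hb
    exact hle hb

variable (k A) in
/-- partial points: a sub-Hopf-algebra with a rational point -/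
structure PPt where
  B : Subalgebra k A
  hB : IsHopfSub k A B
  h : B →ₐ[k] k

instance : Preorder (PPt k A) where
  le p q := ∃ hle : p.B ≤ q.B, q.h.comp (Subalgebra.inclusion hle) = p.h
  le_refl p := ⟨le_rfl, by ext x; rfl⟩
  le_trans p q r := by
    rintro ⟨h1, h1'⟩ ⟨h2, h2'⟩
    refine ⟨h1.trans h2, ?_⟩
    rw [← h1', ← h2']
    ext x
    rfl

lemma PPt.le_def (p q : PPt k A) :
    p ≤ q ↔ ∃ hle : p.B ≤ q.B, q.h.comp (Subalgebra.inclusion hle) = p.h := Iff.rfl

/-- chains of partial points have upper bounds -/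
theorem PPt.exists_ub (c : Set (PPt k A)) (hc : IsChain (· ≤ ·) c) (y : PPt k A) (hy : y ∈ c) :
    ∃ ub : PPt k A, ∀ z ∈ c, z ≤ ub := by
  classical
  haveI : Nonempty c := ⟨⟨y, hy⟩⟩
  let K : c → Subalgebra k A := fun i => i.1.B
  have hchain : ∀ i j : c, i.1 ≤ j.1 ∨ j.1 ≤ i.1 := by
    intro i j
    by_cases hij : i.1 = j.1
    · left; rw [hij]
    · exact hc i.2 j.2 hij
  have dir : Directed (· ≤ ·) K := by
    intro i j
    rcases hchain i j with h | h
    · exact ⟨j, h.1, le_rfl⟩
    · exact ⟨i, le_rfl, h.1⟩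
  let f : ∀ i : c, K i →ₐ[k] k := fun i => i.1.h
  have hf : ∀ (i j : c) (h : K i ≤ K j), f i = (f j).comp (Subalgebra.inclusion h) := by
    intro i j h
    rcases hchain i j with h' | h'
    · obtain ⟨hle, he⟩ := h'
      exact he.symm
    · obtain ⟨hle, he⟩ := h'
      show i.1.h = j.1.h.comp (Subalgebra.inclusion h)
      rw [← he]
      ext x
      rfl
  refine ⟨⟨iSup K, isHopfSub_iSup K dir (fun i => i.1.hB),
    Subalgebra.iSupLift K dir f hf (iSup K) le_rfl⟩, ?_⟩
  intro z hz
  refine ⟨le_iSup K ⟨z, hz⟩, ?_⟩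
  exact Subalgebra.iSupLift_comp_inclusion (K := K) (dir := dir) (f := f) (hf := hf)
    (T := iSup K) (hT := le_rfl) (i := ⟨z, hz⟩) (le_iSup K ⟨z, hz⟩)

end Zorn

section Main

variable {k : Type u} [Field k] [IsAlgClosed k] {A : Type v} [CommRing A] [HopfAlgebra k A]

/-- a maximal partial point is defined everywhere -/
theorem PPt.eq_top_of_isMax (m : PPt k A) (hm : IsMax m) : m.B = ⊤ := by
  classical
  by_contra hne
  obtain ⟨x, hx⟩ : ∃ x : A, x ∉ m.B := by
    by_contra hcon
    push Not at hcon
    exact hne (eq_top_iff.mpr fun x _ => hcon x)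
  obtain ⟨C, hC, ⟨S, hS⟩, hxC⟩ := exists_fg_isHopfSub (k := k) ({x} : Finset A)
  have hxC' : x ∈ C := hxC (by simp)
  let B' : Subalgebra k A := m.B ⊔ C
  have hB' : IsHopfSub k A B' := isHopfSub_sup m.hB hC
  have hSB' : ∀ s ∈ S, s ∈ B' := by
    intro s hs
    apply (le_sup_right : C ≤ B')
    rw [← hS]
    exact Algebra.subset_adjoin hs
  let F : Finset B' := S.subtype (· ∈ B')
  haveI : Module.FaithfullyFlat m.B A := faithfullyFlat_of_isHopfSub m.B m.hB
  have hgen : Algebra.adjoin k (Set.range (Subalgebra.inclusion (le_sup_left : m.B ≤ B')) ∪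
      (F : Set B')) = ⊤ := by
    apply Subalgebra.map_injective (f := B'.val) Subtype.val_injective
    rw [AlgHom.map_adjoin, Algebra.map_top, Subalgebra.range_val]
    have hset : (B'.val : B' → A) '' (Set.range (Subalgebra.inclusion (le_sup_left : m.B ≤ B')) ∪
        (F : Set B')) = (m.B : Set A) ∪ (S : Set A) := by
      ext a
      constructor
      · rintro ⟨y, (⟨b, rfl⟩ | hy), rfl⟩
        · left; exact b.2
        · right
          exact (Finset.mem_subtype.mp hy)
      · rintro (ha | ha)
        · exact ⟨⟨a, (le_sup_left : m.B ≤ B') ha⟩, Or.inl ⟨⟨a, ha⟩, rfl⟩, rfl⟩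
        · exact ⟨⟨a, hSB' a ha⟩, Or.inr (Finset.mem_subtype.mpr ha), rfl⟩
    rw [hset, Algebra.adjoin_union, Algebra.adjoin_eq, hS]
  obtain ⟨h', hh'⟩ := exists_extend_step (k := k) (A := A)
    (Subalgebra.inclusion (le_sup_left : m.B ≤ B')) B'.val (fun b => rfl) F hgen m.h
  let m' : PPt k A := ⟨B', hB', h'⟩
  have hle : m ≤ m' := ⟨le_sup_left, hh'⟩
  have hle' : m' ≤ m := hm hle
  exact hx (hle'.1 ((le_sup_right : C ≤ B') hxC'))

/-- **Extension of rational points**: over an algebraically closed field, a point of a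
sub-Hopf-algebra extends to the whole Hopf algebra. -/
theorem exists_extend_point (A₀ : Subalgebra k A) (hA₀ : IsHopfSub k A A₀) (h₀ : A₀ →ₐ[k] k) :
    ∃ g : A →ₐ[k] k, ∀ x : A₀, g x = h₀ x := by
  classical
  let a : PPt k A := ⟨A₀, hA₀, h₀⟩
  obtain ⟨m, ham, hm⟩ := zorn_le_nonempty_Ici₀ a
    (fun c _ hc y hy => PPt.exists_ub c hc y hy) a le_rfl
  have htop := PPt.eq_top_of_isMax m hm
  obtain ⟨hle, he⟩ := ham
  have hmem : ∀ x : A, x ∈ m.B := fun x => by rw [htop]; exact Algebra.mem_top
  let g : A →ₐ[k] k := m.h.comp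
    (AlgHom.codRestrict (AlgHom.id k A) m.B hmem)
  refine ⟨g, ?_⟩
  intro x
  have h1 := DFunLike.congr_fun he x
  rw [← h1]
  rfl

/-- density of rational points: over an algebraically closed field of characteristic zero, an
element of a commutative Hopf algebra vanishing at all rational points is zero -/
theorem eq_zero_of_forall_point [CharZero k] (a : A) (h : ∀ g : A →ₐ[k] k, g a = 0) : a = 0 := by
  classical
  obtain ⟨C, hC, hfg, haC⟩ := exists_fg_isHopfSub (k := k) ({a} : Finset A)
  have haC' : a ∈ C := haC (by simp)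
  letI := IsHopfSub.hopfAlgebra hC
  haveI : Algebra.FiniteType k C := ⟨Subalgebra.fg_top C |>.mpr hfg⟩
  haveI : IsReduced C := Groth.Agent.H9.CotGr.isReduced_of_charZero k
  have h0 : (⟨a, haC'⟩ : C) = 0 := by
    apply Groth.Agent.H9.CocommDiag.eq_zero_of_forall_point (k := k)
    intro h₀
    obtain ⟨g, hg⟩ := exists_extend_point C hC h₀
    rw [← hg]
    exact h g
  exact congrArg Subtype.val h0

end Main

end Groth.Agent.H9.Points
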